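import Groth.Agent.Intersect.Hyper
import Groth.Agent.TMul.Ample
import Groth.Agent.S0558
import Groth.Agent.S2821

/-!
Basic facts about regular projective varieties and birational morphisms.
-/

set_option autoImplicit false
set_option backward.isDefEq.respectTransparency false
set_option linter.style.haveILetI false

universe u

open CategoryTheory CategoryTheory.Limits AlgebraicGeometry TopologicalSpace

noncomputable section

namespace Groth.Agent.MinSurf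

variable {k : Type u} [Field k]

theorem isNormalScheme_of_regular {X : Scheme.{u}} (h : ∀ x : X, IsRegularLocalRing (X.presheaf.stalk x)) :
    Pi1.IsNormalScheme X := fun x => by
  haveI := h x
  obtain ⟨h1, h2⟩ := S2821.result (X.presheaf.stalk x)
  haveI := h1
  haveI := h2
  exact ⟨h1, inferInstance⟩

theorem exists_ample_of_proj {Y : Scheme.{u}} (sY : Y ⟶ Spec (CommRingCat.of k))
    (h : ∃ (n : ℕ) (ι : Y ⟶ CohB1.ProjSpace n k), IsClosedImmersion ι ∧ ι ≫ CohB1.ProjSpace.toSpec n k = sY) :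
    ∃ H : Y.Modules, CohB1.IsAmple H := by
  obtain ⟨n, ι, hι, -⟩ := h
  haveI := hι
  exact ⟨_, TMul.isAmple_pullback_of_isAffineHom ι (Intersect.isAmple_twistProj_one n k)⟩

theorem isIso_restrict_le {X Y : Scheme.{u}} (f : X ⟶ Y) {V V' : Y.Opens} (h : V' ≤ V) (hV : IsIso (f ∣_ V)) :
    IsIso (f ∣_ V') := by
  have h1 : IsIso ((f ∣_ V) ∣_ (V.ι ⁻¹ᵁ V')) := inferInstance
  have h2 := ((MorphismProperty.isomorphisms Scheme.{u}).arrow_mk_iso_iff (morphismRestrictRestrict f V _)).1 h1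
  have e : V.ι ''ᵁ (V.ι ⁻¹ᵁ V') = V' := by
    rw [Scheme.Hom.image_preimage_eq_opensRange_inf, Scheme.Opens.opensRange_ι, inf_eq_right.2 h]
  rw [e] at h2
  exact h2

theorem birational_comp {X Y Z : Scheme.{u}} [IsIntegral Y] [IsIntegral Z] (f : X ⟶ Y) (g : Y ⟶ Z)
    (hf : ∃ V : Y.Opens, Dense (V : Set Y) ∧ IsIso (f ∣_ V))
    (hg : ∃ W : Z.Opens, Dense (W : Set Z) ∧ IsIso (g ∣_ W)) :
    ∃ U : Z.Opens, Dense (U : Set Z) ∧ IsIso ((f ≫ g) ∣_ U) := by
  obtain ⟨V, hVd, hV⟩ := hf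
  obtain ⟨W, hWd, hW⟩ := hg
  haveI := hV
  haveI := hW
  -- the image in `W` of the part of `V` over `W`
  let e := (g ∣_ W).homeomorph
  let S : Set Z := Subtype.val '' (e '' {y | y.1 ∈ V})
  have hS : IsOpen S := W.2.isOpenMap_subtype_val _ (e.isOpenMap _ (V.2.preimage continuous_subtype_val))
  let U : Z.Opens := ⟨S, hS⟩
  have hUW : U ≤ W := by rintro _ ⟨w, -, rfl⟩; exact w.2
  have hpre : g ⁻¹ᵁ U ≤ V := by
    intro y hy
    obtain ⟨w, ⟨y', hy', rfl⟩, hw⟩ := hy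
    have hyW : y ∈ g ⁻¹ᵁ W := hUW ⟨_, ⟨y', hy', rfl⟩, hw⟩
    have : y' = ⟨y, hyW⟩ := e.injective (Subtype.ext (hw.trans (morphismRestrict_base_coe g W ⟨y, hyW⟩).symm))
    rw [this] at hy'
    exact hy'
  haveI : IsIso (g ∣_ U) := isIso_restrict_le g hUW hW
  haveI : IsIso (f ∣_ g ⁻¹ᵁ U) := isIso_restrict_le f hpre hV
  refine ⟨U, U.2.dense ?_, by rw [morphismRestrict_comp]; infer_instance⟩
  have hne : (g ⁻¹ᵁ W : Set Y).Nonempty := by
    obtain ⟨z, hz⟩ := hWd.nonempty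
    obtain ⟨y, -⟩ := e.surjective ⟨z, hz⟩
    exact ⟨y.1, y.2⟩
  obtain ⟨y, hyV, hyW⟩ := nonempty_preirreducible_inter V.2 (g ⁻¹ᵁ W).2 hVd.nonempty hne
  exact ⟨_, e ⟨y, hyW⟩, ⟨⟨y, hyW⟩, hyV, rfl⟩, rfl⟩

end Groth.Agent.MinSurf
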