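import Groth.Agent.PicProp.Rank
import Groth.Agent.Nakai.AmpleApps
import Groth.Agent.Nakai.NumPull
import Groth.Agent.PtBlow.Birat
import Groth.Agent.NormBlow.Graph
import Groth.Agent.WeilLib.FixedPoints

/-!
A birational morphism of surfaces which is not an isomorphism increases the rank of the group of numerical classes.
-/

set_option autoImplicit false
set_option backward.isDefEq.respectTransparency false
set_option linter.style.haveILetI false
set_option linter.unusedSectionVars false
set_option maxHeartbeats 1000000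

universe u

open CategoryTheory CategoryTheory.Limits AlgebraicGeometry TopologicalSpace Opposite
open Groth.Agent.Intersect Groth.Agent.Nakai Groth.Agent.PicProp
open Groth.Agent.W7Cube (pull pull_cls)

noncomputable section

namespace Groth.Agent.MinSurf

attribute [local instance] W7Cube.law

variable (k : Type u) [Field k] [IsAlgClosed k]

/-- the numerical classes as a submodule of functions on curves -/
def numRange (Z : Scheme.{u}) [Z.Over (Spec (CommRingCat.of k))] [IsProper (Z ↘ Spec (CommRingCat.of k))] :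
    Submodule ℤ (Crv Z → ℤ) :=
  LinearMap.range (degHom k (X := Z)).toIntLinearMap

/-- the rank of the group of numerical classes -/
def numRank (Z : Scheme.{u}) [Z.Over (Spec (CommRingCat.of k))] [IsProper (Z ↘ Spec (CommRingCat.of k))] : ℕ :=
  Module.finrank ℤ (numRange k Z)

variable {Z : Scheme.{u}} [Z.Over (Spec (CommRingCat.of k))] [IsProper (Z ↘ Spec (CommRingCat.of k))]

omit [IsAlgClosed k] in
theorem degHom_cls {L : Z.Modules} (hL : PicF.IsInvertible L) :
    degHom k (Additive.ofMul (PicGrp.cls L hL)) = deg1 k L := rfl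

/-- numerical classes form a finite module -/
theorem finite_numRange : Module.Finite ℤ (numRange k Z) := by
  classical
  obtain ⟨s, hs⟩ := exists_curves k Z
  let r : (numRange k Z) →ₗ[ℤ] (s → ℤ) :=
    { toFun := fun c ξ => c.1 ξ.1
      map_add' := fun a b => rfl
      map_smul' := fun n a => rfl }
  refine Module.Finite.of_injective r fun a b h => ?_
  obtain ⟨a, c, rfl⟩ := a
  obtain ⟨b, d, rfl⟩ := b
  obtain ⟨L, hL, eL⟩ := PicGrp.exists_eq_cls (Additive.toMul c)
  obtain ⟨M, hM, eM⟩ := PicGrp.exists_eq_cls (Additive.toMul d)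
  obtain rfl : c = Additive.ofMul (PicGrp.cls L hL) := congrArg Additive.ofMul eL
  obtain rfl : d = Additive.ofMul (PicGrp.cls M hM) := congrArg Additive.ofMul eM
  exact Subtype.ext (hs L M hL hM fun ξ hξ => congrFun h ⟨ξ, hξ⟩)

include k in
/-- a closed nonempty set which is not finite contains a curve when the space has dimension two -/
theorem exists_curve_in [IsIntegral Z] (hdim : topologicalKrullDim Z ≤ 2) {S : Set Z} (hS : IsClosed S)
    (hinf : ¬ S.Finite) (hne : S ≠ Set.univ) : ∃ ξ : Crv Z, closure ({ξ.1} : Set Z) ⊆ S := by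
  haveI := CurveRR.isNoetherian_of_proper k Z
  obtain ⟨ξ, hξS, hξc⟩ : ∃ ξ ∈ S, ¬ IsClosed ({ξ} : Set Z) := by
    by_contra h
    push Not at h
    exact hinf (WeilLib.finite_of_forall_isClosed hS h)
  have hsub : closure ({ξ} : Set Z) ⊆ S := hS.closure_subset_iff.2 (Set.singleton_subset_iff.2 hξS)
  have hne' : closure ({ξ} : Set Z) ≠ Set.univ := fun h => hne (Set.eq_univ_of_univ_subset (h ▸ hsub))
  let q := Z ↘ Spec (CommRingCat.of k)
  have hco : ∀ x : Z, topologicalKrullDim (closure ({x} : Set Z)) = ((WeilCoh.pdim Z x : ℕ) : WithBot ℕ∞) := fun x => by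
    rw [BMCoh.topologicalKrullDim_closure_singleton, show Order.height x = _ from (WeilLib.exists_pdim_eq_trd q x).2]
    rfl
  refine ⟨⟨ξ, ?_⟩, hsub⟩
  have h0 : WeilCoh.pdim Z ξ ≠ 0 := fun h => hξc ((WeilLib.pdim_eq_zero_iff q ξ).1 h)
  have h2 : WeilCoh.pdim Z (genericPoint Z) ≤ 2 := by
    have h := (topologicalKrullDim_subspace_le Z (closure ({genericPoint Z} : Set Z))).trans hdim
    rw [hco] at h
    exact_mod_cast h
  have hlt : WeilCoh.pdim Z ξ < WeilCoh.pdim Z (genericPoint Z) :=
    WeilLib.pdim_lt q (genericPoint_specializes ξ) fun e => hne' (by rw [e]; exact genericPoint_closure Z)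
  rw [hco, show WeilCoh.pdim Z ξ = 1 by omega]

variable {Y : Scheme.{u}} [Y.Over (Spec (CommRingCat.of k))] [IsProper (Y ↘ Spec (CommRingCat.of k))]
  (g : Y ⟶ Z) [IsProper g] (hg : g ≫ (Z ↘ Spec (CommRingCat.of k)) = Y ↘ Spec (CommRingCat.of k))

include hg in
/-- pullbacks have degree zero on contracted curves -/
theorem deg1_pullback_eq_zero (ξ : Crv Y) (z : Z) (hξ : closure ({ξ.1} : Set Y) ⊆ g ⁻¹' {z}) {L : Z.Modules}
    (hL : PicF.IsInvertible L) : deg1 k ((Scheme.Modules.pullback g).obj L) ξ = 0 := by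
  rw [← curveDeg_eq_deg1 k (PicLoc.isInvertible_pullback g hL) ξ]
  obtain ⟨U, hzU, ⟨e⟩⟩ := hL z
  let i := Devissage.Zi ξ.1
  have hr : Set.range (i ≫ g).base ⊆ Set.range U.ι.base := by
    rintro _ ⟨w, rfl⟩
    have hw : g (i w) = z := hξ ((Devissage.range_Zi ξ.1).le ⟨w, rfl⟩)
    rw [Scheme.Opens.range_ι, Scheme.Hom.comp_base, TopCat.comp_app]
    show g (i w) ∈ U
    rw [hw]
    exact hzU
  let t := IsOpenImmersion.lift U.ι (i ≫ g) hr
  have ht : t ≫ U.ι = i ≫ g := IsOpenImmersion.lift_fac _ _ hr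
  have e' : (Scheme.Modules.pullback i).obj ((Scheme.Modules.pullback g).obj L) ≅ Coh.structureModule _ :=
    (Scheme.Modules.pullbackComp i g).app L ≪≫ (Scheme.Modules.pullbackCongr ht.symm).app L ≪≫
      ((Scheme.Modules.pullbackComp t U.ι).app L).symm ≪≫
      (Scheme.Modules.pullback t).mapIso (((Scheme.Modules.restrictFunctorIsoPullback U.ι).app L).symm ≪≫ e) ≪≫
      PicLoc.pullbackStructureIso t
  rw [Pic13.curveDeg, sub_eq_zero]
  letI : (Scheme.IdealSheafData.vanishingIdeal (Devissage.Zc ξ.1)).subscheme.Over (Spec (CommRingCat.of k)) :=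
    ⟨i ≫ (Y ↘ Spec (CommRingCat.of k))⟩
  exact Finset.sum_congr rfl fun j _ => by rw [(CohFinite.hhEquiv k e' j).finrank_eq]

include hg in
/-- **the rank of numerical classes grows under birational morphisms of surfaces which are not isomorphisms** -/
theorem numRank_lt [IsIntegral Y] [IsIntegral Z] (hZ : Pi1.IsNormalScheme Z) (hdZ : topologicalKrullDim Z ≤ 2)
    (hdY : topologicalKrullDim Y ≤ 2) {H : Y.Modules} (hH : CohB1.IsAmple H)
    (V : Z.Opens) (hV : (V : Set Z).Nonempty) (hiso : IsIso (g ∣_ V)) (hniso : ¬ IsIso g) :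
    numRank k Z < numRank k Y := by
  haveI := CurveRR.isNoetherian_of_proper k Z
  haveI := CurveRR.isNoetherian_of_proper k Y
  haveI := hiso
  have hsurj : Surjective g := by
    refine ⟨fun z => ?_⟩
    have hd : Dense (Set.range g.base) := by
      refine (V.2.dense hV).mono fun v hv => ?_
      obtain ⟨w, hw⟩ := (g ∣_ V).surjective ⟨v, hv⟩
      refine ⟨w.1, ?_⟩
      have := congrArg Subtype.val hw
      rwa [morphismRestrict_base_coe] at this
    have hcl := g.isClosedMap.isClosed_range
    have h1 := hd.closure_eq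
    rw [hcl.closure_eq] at h1
    exact (h1.symm ▸ Set.mem_univ z : z ∈ Set.range g.base)
  haveI := hsurj
  -- a contracted curve
  obtain ⟨z, hz⟩ : ∃ z : Z, ¬ (g ⁻¹' {z}).Finite := by
    by_contra h
    push Not at h
    exact hniso (NormBlow.isIso_of_finite_fibres g hZ V hV hiso h)
  have hzc : IsClosed ({z} : Set Z) := by
    refine ((PtBlow.compl_isoLocus g hZ hdZ ⟨V, hV, hiso⟩).2 z fun hzl => hz ?_).1
    obtain ⟨W, hW⟩ := Opens.mem_iSup.1 hzl
    haveI := W.2
    exact Set.Subsingleton.finite fun a ha b hb => by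
      have e : (g ∣_ W.1) ⟨a, show g a ∈ W.1 from (Set.mem_singleton_iff.1 ha).symm ▸ hW⟩ =
          (g ∣_ W.1) ⟨b, show g b ∈ W.1 from (Set.mem_singleton_iff.1 hb).symm ▸ hW⟩ :=
        Subtype.ext (by rw [morphismRestrict_base_coe, morphismRestrict_base_coe]; exact (Set.mem_singleton_iff.1 ha).trans (Set.mem_singleton_iff.1 hb).symm)
      exact congrArg Subtype.val ((g ∣_ W.1).homeomorph.injective e)
  have hne : g ⁻¹' {z} ≠ Set.univ := fun h => by
    obtain ⟨v, hv⟩ := hV
    have hall : ∀ x : Z, x = z := fun x => by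
      obtain ⟨y, rfl⟩ := hsurj.surj x
      exact (Set.eq_univ_iff_forall.1 h y)
    have hvz : V = ⊤ := top_le_iff.1 fun x _ => (hall x).symm ▸ (hall v) ▸ hv
    subst hvz
    exact hniso (IsZariskiLocalAtTarget.of_iSup_eq_top (P := MorphismProperty.isomorphisms Scheme.{u})
      (fun _ : Unit => (⊤ : Z.Opens)) (by simp) fun _ => hiso)
  obtain ⟨ξ, hξ⟩ := exists_curve_in k hdY (hzc.preimage g.continuous) hz hne
  -- the two maps on the Picard group of `Z`
  let pullA : Additive (PicLoc.PicSet Z) →+ Additive (PicLoc.PicSet Y) := MonoidHom.toAdditive (pull g)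
  let φ := (degHom k (X := Z)).toIntLinearMap
  let φ' := ((degHom k (X := Y)).comp pullA).toIntLinearMap
  have hpull : ∀ (L : Z.Modules) (hL : PicF.IsInvertible L),
      φ' (Additive.ofMul (PicGrp.cls L hL)) = deg1 k ((Scheme.Modules.pullback g).obj L) := fun L hL => by
    change degHom k (Additive.ofMul (pull g (PicGrp.cls L hL))) = _
    rw [pull_cls]
    rfl
  have hker : LinearMap.ker φ = LinearMap.ker φ' := by
    ext c
    obtain ⟨L, hL, eL⟩ := PicGrp.exists_eq_cls (Additive.toMul c)
    obtain rfl : c = Additive.ofMul (PicGrp.cls L hL) := congrArg Additive.ofMul eL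
    rw [LinearMap.mem_ker, LinearMap.mem_ker, hpull]
    have h1 : PicF.IsInvertible (Coh.structureModule Z) := TMul.isInvertible_structureModule
    have h0 : deg1 k ((Scheme.Modules.pullback g).obj (Coh.structureModule Z)) = 0 := by
      rw [deg1_congr k (PicLoc.pullbackStructureIso g), deg1_one]
    constructor
    · intro h
      rw [← h0]
      exact deg1_eq_of_numEq k (numEq_pullback k g hg hL h1 (numEq_of_deg1 k (by rw [deg1_one]; exact h)))
    · intro h
      change deg1 k L = 0
      rw [← deg1_one k (X := Z)]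
      exact deg1_eq_of_numEq k (numEq_of_pullback k g hg hL h1 (numEq_of_deg1 k (by rw [h0]; exact h)))
  have hle : LinearMap.range φ' ≤ numRange k Y := by
    rintro _ ⟨c, rfl⟩
    exact ⟨pullA c, rfl⟩
  let e : numRange k Z ≃ₗ[ℤ] LinearMap.range φ' :=
    φ.quotKerEquivRange.symm ≪≫ₗ Submodule.quotEquivOfEq _ _ hker ≪≫ₗ φ'.quotKerEquivRange
  haveI := finite_numRange k (Z := Y)
  let S : Submodule ℤ (numRange k Y) := Submodule.comap (numRange k Y).subtype (LinearMap.range φ')
  have hrk : numRank k Z = Module.finrank ℤ S :=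
    e.finrank_eq.trans (Submodule.comapSubtypeEquivOfLe hle).finrank_eq.symm
  rw [hrk]
  refine lt_of_le_of_ne (Submodule.finrank_le S) fun heq => ?_
  have hq : Module.finrank ℤ ((numRange k Y) ⧸ S) = 0 := by
    have := Submodule.finrank_quotient_add_finrank S
    change _ = numRank k Y at this
    change Module.finrank ℤ S = numRank k Y at heq
    omega
  obtain ⟨a, ha, hax⟩ := Module.finrank_eq_zero_iff.1 hq
    (Submodule.Quotient.mk ⟨degHom k (Additive.ofMul (PicGrp.cls H hH.1)), ⟨Additive.ofMul (PicGrp.cls H hH.1), rfl⟩⟩)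
  rw [← Submodule.Quotient.mk_smul, Submodule.Quotient.mk_eq_zero] at hax
  obtain ⟨c, hc⟩ := hax
  obtain ⟨L, hL, eL⟩ := PicGrp.exists_eq_cls (Additive.toMul c)
  obtain rfl : c = Additive.ofMul (PicGrp.cls L hL) := congrArg Additive.ofMul eL
  rw [hpull] at hc
  have h1 : deg1 k ((Scheme.Modules.pullback g).obj L) ξ = a * deg1 k H ξ := by
    rw [hc]
    rfl
  rw [deg1_pullback_eq_zero k g hg ξ z hξ hL] at h1
  have hpos : 0 < deg1 k H ξ := by
    have hd : topologicalKrullDim (CohB1.support (Devissage.A ξ.1)) = ((1 : ℕ) : WithBot ℕ∞) := by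
      rw [(Devissage.piece_A ξ.1).support_eq, ξ.2]
    have h2 := Intersect.alt_pos k 1 (fun _ => H) (fun _ => hH) _ (Devissage.isCoh_A ξ.1) hd
    rw [← D_replicate, List.replicate_one] at h2
    have h3 : (0 : ℚ) < deg1 k H ξ := by
      rw [cast_deg1]
      linarith
    exact_mod_cast h3
  exact (mul_ne_zero ha hpos.ne') h1.symm

end Groth.Agent.MinSurf
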